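import Cfsg.Agent.H779.DP.ULev
import Cfsg.Agent.TitsThree.UFrame
import Cfsg.Agent.H146.KW.CycGL
import Cfsg.Agent.S0278

/-!
# S4243: cyclic Sylow subgroups of `PSU_4(q)`, `PSU_5(q)` at the odd primes dividing `q ^ 2 + 1`  (helper334)
-/

set_option autoImplicit false

namespace Cfsg.Agent.H334.KW

open Cfsg Module Matrix Cfsg.Agent.LieClassical.HermBasic Cfsg.Agent.LieClassical.HermSiegel
open Cfsg.Agent.H779.DP Cfsg.Agent.H948.UProd Cfsg.Agent.LieExceptional.CyclicSylow Cfsg.Agent.H146.KW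
open Cfsg.Agent.KFacts.Unit (Frm)

section Num

variable {q l : ℕ}

/-- `l` odd, `l ∣ q ^ 2 + 1` -/
theorem not_dvd_sub (hl : l.Prime) (h2 : l ≠ 2) (hq : 2 ≤ q) (hd : l ∣ q ^ 2 + 1) : ¬ l ∣ q ^ 2 - 1 := by
  intro h
  have h3 : 1 ≤ q ^ 2 := Nat.one_le_pow _ _ (by omega)
  have h4 : l ∣ 2 := by
    have := (Nat.dvd_sub hd h)
    have e : q ^ 2 + 1 - (q ^ 2 - 1) = 2 := by omega
    rwa [e] at this
  exact h2 ((Nat.prime_dvd_prime_iff_eq hl Nat.prime_two).1 h4)

theorem ne_of_sq {l : ℕ} (hl : l.Prime) (h2 : l ≠ 2) {x : ZMod l} (hx : x ^ 2 = -1) : x ^ 3 ≠ -1 ∧ x ^ 5 ≠ -1 := by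
  have := Fact.mk hl
  have h4 : ((2 : ℕ) : ZMod l) ≠ 0 := by
    rw [Ne, ZMod.natCast_eq_zero_iff]
    intro h
    exact h2 ((Nat.prime_dvd_prime_iff_eq hl Nat.prime_two).1 h)
  constructor
  · intro h
    apply h4
    have h5 : x = 1 := by
      have : x ^ 3 = x ^ 2 * x := by ring
      rw [this, hx] at h
      linear_combination -h
    rw [h5] at hx
    push_cast
    linear_combination hx
  · intro h
    apply h4
    have h5 : x = -1 := by
      have : x ^ 5 = x ^ 2 * x ^ 2 * x := by ring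
      rw [this, hx] at h
      linear_combination h
    rw [h5] at hx
    push_cast
    linear_combination hx

theorem cast_sq {q l : ℕ} (h : l ∣ q ^ 2 + 1) : (q : ZMod l) ^ 2 = -1 := by
  have h1 := (ZMod.natCast_eq_zero_iff _ _).2 h
  push_cast at h1
  exact eq_neg_of_add_eq_zero_left h1

theorem not_dvd_three (hl : l.Prime) (h2 : l ≠ 2) (hd : l ∣ q ^ 2 + 1) : ¬ l ∣ q ^ 3 + 1 := by
  intro h
  have h1 := (ZMod.natCast_eq_zero_iff _ _).2 h
  push_cast at h1
  exact (ne_of_sq hl h2 (cast_sq hd)).1 (eq_neg_of_add_eq_zero_left h1)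

theorem not_dvd_five (hl : l.Prime) (h2 : l ≠ 2) (hd : l ∣ q ^ 2 + 1) : ¬ l ∣ q ^ 5 + 1 := by
  intro h
  have h1 := (ZMod.natCast_eq_zero_iff _ _).2 h
  push_cast at h1
  exact (ne_of_sq hl h2 (cast_sq hd)).2 (eq_neg_of_add_eq_zero_left h1)

theorem not_dvd_q (hl : l.Prime) (hd : l ∣ q ^ 2 + 1) : ¬ l ∣ q := by
  intro h
  have h1 : l ∣ q ^ 2 := h.trans (dvd_pow_self q two_ne_zero)
  have h3 := (Nat.dvd_add_right h1).1 hd
  exact hl.one_lt.ne' (Nat.dvd_one.1 h3)

theorem fac_zero {l m : ℕ} (h : ¬ l ∣ m) : m.factorization l = 0 := Nat.factorization_eq_zero_of_not_dvd h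

end Num

variable {F : Type*} [Field F] [Fintype F] {q n : ℕ}

theorem prod_four (q : ℕ) : ∏ i ∈ Finset.range 4, (if Even i then q ^ (i + 1) + 1 else q ^ (i + 1) - 1) =
    (q + 1) * (q ^ 2 - 1) * (q ^ 3 + 1) * (q ^ 4 - 1) := by
  rw [Finset.prod_range_succ, Finset.prod_range_succ, Finset.prod_range_succ, Finset.prod_range_succ,
    Finset.prod_range_zero, if_pos (by decide), if_neg (by decide), if_pos (by decide), if_neg (by decide)]
  ring

theorem prod_five (q : ℕ) : ∏ i ∈ Finset.range 5, (if Even i then q ^ (i + 1) + 1 else q ^ (i + 1) - 1) =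
    (q + 1) * (q ^ 2 - 1) * (q ^ 3 + 1) * (q ^ 4 - 1) * (q ^ 5 + 1) := by
  rw [Finset.prod_range_succ, prod_four, if_pos (by decide)]

theorem fac_SU (hF : Fintype.card F = q ^ 2) (hn : n = 4 ∨ n = 5) {l : ℕ} (hl : l.Prime) (h2 : l ≠ 2)
    (hd : l ∣ q ^ 2 + 1) : (Nat.card (SU n F q)).factorization l = (q ^ 4 - 1).factorization l := by
  have hq := two_le hF
  have h1 := S0278.result hF n (by omega)
  have hq2 : 4 ≤ q ^ 2 := by nlinarith
  have hq3 : 1 ≤ q ^ 3 := Nat.one_le_pow _ _ (by omega)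
  have hq4 : 16 ≤ q ^ 4 := by
    have := Nat.pow_le_pow_left hq 4
    omega
  have hs : ¬ l ∣ q ^ 2 - 1 := not_dvd_sub hl h2 hq hd
  have hp : ¬ l ∣ q + 1 := by
    intro h
    apply hs
    have e : q ^ 2 - 1 = (q + 1) * (q - 1) := by
      have := Nat.sq_sub_sq q 1
      simpa using this
    rw [e]
    exact dvd_mul_of_dvd_left h _
  have hpw : ∀ m, ¬ l ∣ q ^ m := fun m h => not_dvd_q hl hd (hl.dvd_of_dvd_pow h)
  have key := congrArg (fun m => m.factorization l) h1
  have hcard : Nat.card (SU n F q) ≠ 0 := Nat.card_pos.ne'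
  rcases hn with rfl | rfl
  · rw [prod_four] at key
    rw [Nat.factorization_mul (by omega) hcard, Nat.factorization_mul (by positivity)
      (Nat.mul_ne_zero (Nat.mul_ne_zero (Nat.mul_ne_zero (by omega) (by omega)) (by omega)) (by omega)),
      Nat.factorization_mul (Nat.mul_ne_zero (Nat.mul_ne_zero (by omega) (by omega)) (by omega)) (by omega),
      Nat.factorization_mul (Nat.mul_ne_zero (by omega) (by omega)) (by omega),
      Nat.factorization_mul (by omega) (by omega)] at key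
    simp only [Finsupp.add_apply] at key
    rw [fac_zero hp, fac_zero hs, fac_zero (not_dvd_three hl h2 hd), fac_zero (hpw _)] at key
    omega
  · rw [prod_five] at key
    rw [Nat.factorization_mul (by omega) hcard, Nat.factorization_mul (by positivity)
      (Nat.mul_ne_zero (Nat.mul_ne_zero (Nat.mul_ne_zero (Nat.mul_ne_zero (by omega) (by omega)) (by omega)) (by omega)) (by omega)),
      Nat.factorization_mul (Nat.mul_ne_zero (Nat.mul_ne_zero (Nat.mul_ne_zero (by omega) (by omega)) (by omega)) (by omega)) (by omega),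
      Nat.factorization_mul (Nat.mul_ne_zero (Nat.mul_ne_zero (by omega) (by omega)) (by omega)) (by omega),
      Nat.factorization_mul (Nat.mul_ne_zero (by omega) (by omega)) (by omega),
      Nat.factorization_mul (by omega) (by omega)] at key
    simp only [Finsupp.add_apply] at key
    rw [fac_zero hp, fac_zero hs, fac_zero (not_dvd_three hl h2 hd), fac_zero (not_dvd_five hl h2 hd),
      fac_zero (hpw _)] at key
    omega

theorem lev_injective {d : ℕ} {e f : Fin d → (Fin n → F)} (hF : Fintype.card F = q ^ 2) (E : Frm q e f) :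
    Function.Injective (lev hF E) := by
  intro M N h
  apply Subtype.ext
  apply Matrix.ext_of_mulVec_single
  intro i
  have h1 := act_lev_cmb_e hF E M (Pi.single i 1)
  rw [h, act_lev_cmb_e hF E N] at h1
  exact (cmb_injective E h1).symm

theorem exists_hom (F : Type*) [Field F] [Finite F] {l : ℕ} [hl : Fact l.Prime] (h : ¬ l ∣ Nat.card F - 1) :
    ∃ (C : Type) (_ : Group C) (_ : Finite C) (_ : IsCyclic C), (Nat.card C).factorization l =
      (Nat.card F ^ 2 - 1).factorization l ∧ ∃ g : C →* SpecialLinearGroup (Fin 2) F, Function.Injective g := by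
  obtain ⟨K, _, _, hK, g, hg⟩ := exists_singer F 2
  obtain ⟨Q⟩ : Nonempty (Sylow l Kˣ) := inferInstance
  have hdet : ∀ x : Q, (Matrix.GeneralLinearGroup.det (g (x : Kˣ)) : Fˣ) = 1 := by
    intro x
    have h1 : IsPGroup l (Subgroup.zpowers (Matrix.GeneralLinearGroup.det (g (x : Kˣ)))) := by
      have h2 : IsPGroup l (Subgroup.zpowers (x : Kˣ)) := Q.isPGroup'.to_le (by
        rw [Subgroup.zpowers_le]; exact x.2)
      have h3 := h2.map (Matrix.GeneralLinearGroup.det.comp g)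
      rwa [MonoidHom.map_zpowers] at h3
    obtain ⟨m, hm⟩ := IsPGroup.iff_card.mp h1
    rw [Nat.card_zpowers] at hm
    have h3 : orderOf (Matrix.GeneralLinearGroup.det (g (x : Kˣ))) ∣ Nat.card F - 1 := by
      rw [← Nat.card_units]; exact orderOf_dvd_natCard _
    rw [← orderOf_eq_one_iff, hm]
    rcases Nat.eq_zero_or_pos m with rfl | hm0
    · exact pow_zero l
    · exact absurd ((dvd_pow_self l hm0.ne').trans (hm ▸ h3)) h
  refine ⟨Q, inferInstance, inferInstance, inferInstance, ?_, ?_⟩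
  · rw [Q.card_eq_multiplicity, Nat.card_units, hK, hl.out.factorization_pow, Finsupp.single_eq_same]
  · refine ⟨{ toFun := fun x => ⟨(g (x : Kˣ) : Matrix (Fin 2) (Fin 2) F), ?_⟩, map_one' := ?_, map_mul' := ?_ }, ?_⟩
    · exact congrArg Units.val (hdet x)
    · apply Subtype.ext
      show ((g ((1 : Q) : Kˣ) : GL (Fin 2) F) : Matrix (Fin 2) (Fin 2) F) = 1
      rw [OneMemClass.coe_one, map_one]; rfl
    · intro x y
      apply Subtype.ext
      show ((g ((x * y : Q) : Kˣ) : GL (Fin 2) F) : Matrix (Fin 2) (Fin 2) F) = _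
      rw [Subgroup.coe_mul, map_mul]; rfl
    · intro x y hxy
      apply Subtype.ext
      apply hg
      apply Units.ext
      exact congrArg Subtype.val hxy

/-- **cyclic Sylow subgroups**: `l` odd, `l ∣ q ^ 2 + 1`, `n = 4, 5` -/
theorem isCyclic_sylow_SU (hF : Fintype.card F = q ^ 2) (hn : n = 4 ∨ n = 5) {l : ℕ} (hl : l.Prime) (h2 : l ≠ 2)
    (hd : l ∣ q ^ 2 + 1) (P : Sylow l (SU n F q)) : IsCyclic P := by
  have := Fact.mk hl
  obtain ⟨W, -, -⟩ := Cfsg.Agent.TitsThree.UFrame.exists_frame hF (N := n) (m := 2) (by omega)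
  have E : Frm q W.e W.f := ⟨W.ee, W.ff, W.ef⟩
  have hcF : Nat.card F = q ^ 2 := by rw [Nat.card_eq_fintype_card, hF]
  have hq := two_le hF
  obtain ⟨C, _, _, _, hC, g, hg⟩ := exists_hom F (l := l) (by rw [hcF]; exact not_dvd_sub hl h2 hq hd)
  refine isCyclic_sylow_of_hom ((lev hF E).comp g) ((lev_injective hF E).comp hg) ?_ P
  rw [hC, fac_SU hF hn hl h2 hd, hcF, ← pow_mul]

/-- **cyclic Sylow subgroups of `PSU_4(q)`, `PSU_5(q)`** -/
theorem isCyclic_sylow_PSU (hF : Fintype.card F = q ^ 2) (hn : n = 4 ∨ n = 5) {l : ℕ} (hl : l.Prime) (h2 : l ≠ 2)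
    (hd : l ∣ q ^ 2 + 1) (P : Sylow l (PSU n F q)) : IsCyclic P := by
  have := Fact.mk hl
  exact isCyclic_sylow_of_surjective (QuotientGroup.mk' _) (QuotientGroup.mk'_surjective _)
    (isCyclic_sylow_SU hF hn hl h2 hd) P

/-- an odd prime dividing `q ^ 2 + 1` -/
theorem exists_prime {q : ℕ} (hq : 2 ≤ q) : ∃ l : ℕ, l.Prime ∧ l ≠ 2 ∧ l ∣ q ^ 2 + 1 := by
  by_contra hcon
  push Not at hcon
  have h1 : ∀ {d : ℕ}, d.Prime → d ∣ q ^ 2 + 1 → d = 2 := by
    intro d hd hdd
    by_contra h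
    exact hcon d hd h hdd
  obtain ⟨m, hm⟩ : ∃ m, q ^ 2 + 1 = 2 ^ m := ⟨_, Nat.eq_prime_pow_of_unique_prime_dvd (by positivity) h1⟩
  have h2 : ¬ 4 ∣ q ^ 2 + 1 := by
    intro h
    have h3 : q ^ 2 % 4 = 0 ∨ q ^ 2 % 4 = 1 := by
      rcases Nat.even_or_odd q with ⟨t, ht⟩ | ⟨t, ht⟩
      · left; subst ht; ring_nf; omega
      · right; subst ht; ring_nf; omega
    omega
  have hq2 : 4 ≤ q ^ 2 := by nlinarith
  have h3 : m < 2 := by
    by_contra h
    push Not at h
    exact h2 (hm ▸ pow_dvd_pow 2 h)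
  interval_cases m <;> omega

/-- the form of the request -/
theorem exists_cyclic (hF : Fintype.card F = q ^ 2) (hn : n = 4 ∨ n = 5) :
    ∃ l : ℕ, l.Prime ∧ l ≠ 2 ∧ l ∣ q ^ 2 + 1 ∧ ∀ P : Sylow l (PSU n F q), IsCyclic P := by
  obtain ⟨l, hl, h2, hd⟩ := exists_prime (two_le hF)
  exact ⟨l, hl, h2, hd, isCyclic_sylow_PSU hF hn hl h2 hd⟩

end Cfsg.Agent.H334.KW
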