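import Cfsg.Agent.H14.TypC
import Cfsg.Agent.H460.PanL
import Cfsg.Agent.OddHalf.Table.AutRGD
import Cfsg.Agent.H331.KW.RowsCl
import Cfsg.Agent.H334.KW.CycU

/-!
# S4243, own characteristic: `PSU_4(q)`, `q ≥ 3`, and `PSU_5(q)`  (helper334)
-/

set_option autoImplicit false
set_option linter.unusedSectionVars false

namespace Cfsg.Agent.H334.KW.OwnU

open Cfsg Cfsg.Agent.H331.KW Cfsg.Agent.H331.KW.RowsCl Cfsg.Agent.H146.KW Cfsg.Agent.H460.Typed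
open CoxeterSystem Cfsg.Agent.ChevalleyStructure.CoxeterGeom Cfsg.Agent.Tits.Roots
  Cfsg.Agent.Tits.RootComb Cfsg.Agent.Nodes.Comb Cfsg.Agent.Nodes.Reps Cfsg.Agent.Nodes.BNOf Cfsg.Agent.Nodes.BNOf.RGD
open Cfsg.Agent.FixBN Cfsg.Agent.Tits.Core

universe u

variable {K : Type u} [Group K] [Finite K] [IsSimpleGroup K] {p : ℕ} [hp : Fact p.Prime] {t : ℕ}

theorem own_typed {n : ℕ} (hn : 1 ≤ n) {Q : Fin n → ℕ} (H : HasTyped p K (CoxeterMatrix.B n) Q) (ht : Good p t K)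
    (hl : ∀ i : Fin n, i.val < n - 1 → ∃ l : ℕ, l.Prime ∧ (∀ R : Sylow l K, IsCyclic R) ∧ l ∣ Q i + 1) : OwnNo p K := by
  obtain ⟨A, h, T, nn, X, hW, R, hgen, hT, hnode⟩ := H
  have hne : (R.bnPair hgen).S.Nonempty := ⟨nn ⟨0, hn⟩, ⟨0, hn⟩, rfl⟩
  have hcore := Cfsg.Agent.Tits.OfBN.normalCore_eq_bot (R.bnPair hgen) hne
  obtain ⟨hN, cs', hcs, hWP, hS⟩ := OddHalf.Table.AutRGD.exists_setup R hgen hcore
  intro L _ _ hL hP hd
  have : Fact t.Prime := ⟨ht.prime⟩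
  refine hL (eq_top_passive (e := OddHalf.Table.AutRGD.eS R hgen) hn hS ⟨hN, cs', hcs⟩ ht (hP p) (hP t) hd ?_)
  intro i hi
  obtain ⟨l, hlp, hlc, hld⟩ := hl i hi
  have : Fact l.Prime := ⟨hlp⟩
  refine ⟨l, hlp, hlc, hP l, ?_⟩
  intro hN' cs hcs' x
  rw [H460.PanL.card_pan hS (OddHalf.Table.AutRGD.eS R hgen) cs hcs' (hnode i) x]
  exact hld

/-- **`PSU_4(q)`, `q ≥ 3`, and `PSU_5(q)`** -/
theorem own_psu {F : Type} [Field F] [Fintype F] {q N : ℕ} (hF : Fintype.card F = q ^ 2) (hN : N = 4 ∨ N = 5)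
    (h4 : ¬ (N = 4 ∧ q = 2)) [CharP F p] [IsSimpleGroup (PSU N F q)] : OwnNo p (PSU N F q) := by
  have : Finite (PSU N F q) := Quotient.finite _
  obtain ⟨t, -, ht⟩ := GoodCl.psu (F := F) (p := p) hF (show 3 ≤ N by omega) h4 (by omega)
  obtain ⟨l, hl, -, hd, hc⟩ := exists_cyclic hF hN
  rcases hN with rfl | rfl
  · refine own_typed (n := 2) (by norm_num) (H14.TypC.typed_psu_even (F := F) (p := p) hF (m := 2) (by norm_num)) ht ?_
    intro i hi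
    refine ⟨l, hl, hc, ?_⟩
    have h0 : (i : ℕ) + 1 < 2 := by omega
    show l ∣ (if (i : ℕ) + 1 < 2 then q ^ 2 else q) + 1
    rw [if_pos h0]
    exact hd
  · refine own_typed (n := 2) (by norm_num) (H14.TypC.typed_psu_odd (F := F) (p := p) hF (m := 2) (by norm_num)) ht ?_
    intro i hi
    refine ⟨l, hl, hc, ?_⟩
    have h0 : (i : ℕ) + 1 < 2 := by omega
    show l ∣ (if (i : ℕ) + 1 < 2 then q ^ 2 else q ^ 3) + 1
    rw [if_pos h0]
    exact hd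

end Cfsg.Agent.H334.KW.OwnU
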